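import Mathlib.CategoryTheory.Linear.Basic
import Mathlib.CategoryTheory.Preadditive.Biproducts
import Mathlib.CategoryTheory.Abelian.Basic
import Mathlib.LinearAlgebra.TensorProduct.Basis
import Mathlib.LinearAlgebra.Dimension.Free
import Mathlib.LinearAlgebra.FreeModule.Finite.Basic
import Mathlib.LinearAlgebra.Dimension.FreeAndStrongRankCondition
import Mathlib.LinearAlgebra.Basis.VectorSpace

/-!
# Linear algebra in a `k`-linear category behind two-term resolutions by exceptional objects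

`exists_cover`: if `O`, `B` have only scalar endomorphisms, `Hom(O, B) = 0` and
`Hom(B, O) ⊗ Hom(O, F) → Hom(B, F)` is injective, there is `Φ : B^b ⊞ O^c ⟶ F` which induces bijections on
`Hom(O, -)` and `Hom(B, -)`. `comp_injective` is the converse.
-/

set_option autoImplicit false
universe w v u

open CategoryTheory CategoryTheory.Limits TensorProduct

namespace K581.GaetaAlg

variable {k : Type w} [Field k] {C : Type u} [Category.{v} C] [Preadditive C] [Linear k C]

section Tensor

variable {W V : Type v} [AddCommGroup W] [Module k W] [AddCommGroup V] [Module k V]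

theorem exists_sum_tmul {n : ℕ} (x : Fin n → V) (hx : Submodule.span k (Set.range x) = ⊤) (t : W ⊗[k] V) :
    ∃ y : Fin n → W, t = ∑ i, y i ⊗ₜ[k] x i := by
  induction t using TensorProduct.induction_on with
  | zero => exact ⟨0, by simp⟩
  | add s t hs ht =>
    obtain ⟨y, rfl⟩ := hs
    obtain ⟨z, rfl⟩ := ht
    exact ⟨y + z, by simp [TensorProduct.add_tmul, Finset.sum_add_distrib]⟩
  | tmul a b =>
    have hb : b ∈ Submodule.span k (Set.range x) := by rw [hx]; trivial
    obtain ⟨c, rfl⟩ := (Submodule.mem_span_range_iff_exists_fun k).mp hb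
    refine ⟨fun i => c i • a, ?_⟩
    rw [TensorProduct.tmul_sum]
    refine Finset.sum_congr rfl fun i _ => ?_
    rw [TensorProduct.tmul_smul, TensorProduct.smul_tmul']

theorem eq_zero_of_sum_tmul {n : ℕ} (x : Module.Basis (Fin n) k V) (y : Fin n → W)
    (h : ∑ i, y i ⊗ₜ[k] x i = 0) : y = 0 := by
  have h1 := TensorProduct.sum_tmul_basis_right_eq_zero x (Finsupp.equivFunOnFinite.symm y) (by
    rw [Finsupp.sum_fintype]
    · simpa using h
    · intro i; simp)
  funext i
  exact congrArg (fun f : Fin n →₀ W => f i) h1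

end Tensor

variable {B O F : C}

theorem lift_tmul (w : B ⟶ O) (s : O ⟶ F) :
    TensorProduct.lift (Linear.comp B O F : (B ⟶ O) →ₗ[k] (O ⟶ F) →ₗ[k] (B ⟶ F)) (w ⊗ₜ s) = w ≫ s := by
  rw [TensorProduct.lift.tmul]
  rfl

theorem lift_sum {n : ℕ} (w : Fin n → (B ⟶ O)) (s : Fin n → (O ⟶ F)) :
    TensorProduct.lift (Linear.comp B O F : (B ⟶ O) →ₗ[k] (O ⟶ F) →ₗ[k] (B ⟶ F))
      (∑ i, w i ⊗ₜ s i) = ∑ i, w i ≫ s i := by
  rw [map_sum]
  exact Finset.sum_congr rfl fun i _ => lift_tmul _ _

variable [HasBinaryBiproducts C] [HasFiniteBiproducts C]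

theorem exists_cover [Module.Finite k (O ⟶ F)] [Module.Finite k (B ⟶ F)]
    (hOO : ∀ f : O ⟶ O, ∃ c : k, f = c • 𝟙 O) (hBB : ∀ f : B ⟶ B, ∃ c : k, f = c • 𝟙 B)
    (hOB : ∀ f : O ⟶ B, f = 0)
    (hμ : Function.Injective (TensorProduct.lift
      (Linear.comp B O F : (B ⟶ O) →ₗ[k] (O ⟶ F) →ₗ[k] (B ⟶ F)))) :
    ∃ (b c : ℕ) (Φ : (⨁ fun _ : Fin b => B) ⊞ (⨁ fun _ : Fin c => O) ⟶ F),
      (∀ f : B ⟶ F, ∃ g, g ≫ Φ = f) ∧ (∀ f : O ⟶ F, ∃ g, g ≫ Φ = f) ∧
      (∀ g : B ⟶ (⨁ fun _ : Fin b => B) ⊞ (⨁ fun _ : Fin c => O), g ≫ Φ = 0 → g = 0) ∧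
      (∀ g : O ⟶ (⨁ fun _ : Fin b => B) ⊞ (⨁ fun _ : Fin c => O), g ≫ Φ = 0 → g = 0) := by
  classical
  let μ := TensorProduct.lift (Linear.comp B O F : (B ⟶ O) →ₗ[k] (O ⟶ F) →ₗ[k] (B ⟶ F))
  let v := Module.finBasis k (O ⟶ F)
  obtain ⟨U, hU⟩ := Submodule.exists_isCompl (LinearMap.range μ)
  let u := Module.finBasis k U
  let u' : ∀ _ : Fin (Module.finrank k U), B ⟶ F := fun j => (u j : B ⟶ F)
  let Φ : (⨁ fun _ : Fin (Module.finrank k U) => B) ⊞
      (⨁ fun _ : Fin (Module.finrank k (O ⟶ F)) => O) ⟶ F :=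
    biprod.desc (biproduct.desc u') (biproduct.desc fun i => v i)
  have hcomp : ∀ {T : C} (a : ∀ _ : Fin (Module.finrank k U), T ⟶ B)
      (b : ∀ _ : Fin (Module.finrank k (O ⟶ F)), T ⟶ O),
      biprod.lift (biproduct.lift a) (biproduct.lift b) ≫ Φ = ∑ j, a j ≫ u' j + ∑ i, b i ≫ v i := by
    intro T a b
    rw [biprod.lift_desc, biproduct.lift_desc, biproduct.lift_desc]
  have hdec : ∀ {T : C} (g : T ⟶ (⨁ fun _ : Fin (Module.finrank k U) => B) ⊞
      (⨁ fun _ : Fin (Module.finrank k (O ⟶ F)) => O)),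
      g = biprod.lift (biproduct.lift fun j => (g ≫ biprod.fst) ≫ biproduct.π _ j)
        (biproduct.lift fun i => (g ≫ biprod.snd) ≫ biproduct.π _ i) := by
    intro T g
    apply biprod.hom_ext
    · rw [biprod.lift_fst]
      apply biproduct.hom_ext
      intro j
      rw [biproduct.lift_π]
    · rw [biprod.lift_snd]
      apply biproduct.hom_ext
      intro j
      rw [biproduct.lift_π]
  refine ⟨_, _, Φ, ?_, ?_, ?_, ?_⟩
  · intro f
    obtain ⟨r, hr, x, hx, rfl⟩ := Submodule.mem_sup.mp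
      (show f ∈ LinearMap.range μ ⊔ U by rw [hU.sup_eq_top]; trivial)
    obtain ⟨t, rfl⟩ := hr
    obtain ⟨w, rfl⟩ := exists_sum_tmul (k := k) v v.span_eq t
    have hx2 : ∑ j, u.repr ⟨x, hx⟩ j • u' j = x := by
      have h1 := congrArg (Submodule.subtype U) (u.sum_repr ⟨x, hx⟩)
      rw [map_sum] at h1
      exact h1
    refine ⟨biprod.lift (biproduct.lift fun j => u.repr ⟨x, hx⟩ j • 𝟙 B) (biproduct.lift w), ?_⟩
    rw [hcomp]
    simp only [Linear.smul_comp, Category.id_comp]
    rw [hx2, add_comm]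
    congr 1
    exact (lift_sum w v).symm
  · intro f
    refine ⟨biprod.lift (biproduct.lift fun j => 0) (biproduct.lift fun i => v.repr f i • 𝟙 O), ?_⟩
    rw [hcomp]
    simp only [Linear.smul_comp, Category.id_comp, zero_comp, Finset.sum_const_zero, zero_add]
    exact v.sum_repr f
  · intro g hg
    rw [hdec g] at hg ⊢
    rw [hcomp] at hg
    choose d hd using fun j => hBB ((g ≫ biprod.fst) ≫ biproduct.π _ j)
    simp only [hd, Linear.smul_comp, Category.id_comp] at hg
    have h1 : ∑ j, d j • u' j ∈ U := Submodule.sum_mem _ fun j _ => U.smul_mem _ (u j).2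
    have h2 : ∑ i, ((g ≫ biprod.snd) ≫ biproduct.π _ i) ≫ v i ∈ LinearMap.range μ :=
      ⟨_, lift_sum (k := k) (fun i => (g ≫ biprod.snd) ≫ biproduct.π _ i) v⟩
    have h3 : ∑ j, d j • u' j = 0 := by
      have h4 : ∑ j, d j • u' j ∈ LinearMap.range μ := by
        rw [eq_neg_of_add_eq_zero_left hg]
        exact Submodule.neg_mem _ h2
      have h5 : ∑ j, d j • u' j ∈ LinearMap.range μ ⊓ U := ⟨h4, h1⟩
      rw [hU.inf_eq_bot] at h5
      exact h5
    rw [h3, zero_add] at hg
    have h6 : d = 0 := by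
      have h7 : ∑ j, d j • u j = 0 := by
        apply Subtype.ext
        have h8 := map_sum (Submodule.subtype U) (fun j => d j • u j) Finset.univ
        exact h8.trans h3
      exact funext fun j => Fintype.linearIndependent_iff.mp u.linearIndependent d h7 j
    have h9 : (fun i => (g ≫ biprod.snd) ≫ biproduct.π _ i) = 0 := by
      apply eq_zero_of_sum_tmul (k := k) v
      apply hμ
      rw [lift_sum, map_zero]
      exact hg
    apply biprod.hom_ext
    · rw [biprod.lift_fst, zero_comp]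
      apply biproduct.hom_ext
      intro j
      rw [biproduct.lift_π, zero_comp, hd, h6, Pi.zero_apply, zero_smul]
    · rw [biprod.lift_snd, zero_comp]
      apply biproduct.hom_ext
      intro i
      rw [biproduct.lift_π, zero_comp]
      exact congrFun h9 i
  · intro g hg
    rw [hdec g] at hg ⊢
    rw [hcomp] at hg
    choose d hd using fun i => hOO ((g ≫ biprod.snd) ≫ biproduct.π _ i)
    simp only [hd, hOB, zero_comp, Finset.sum_const_zero, zero_add, Linear.smul_comp, Category.id_comp] at hg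
    have h6 := Fintype.linearIndependent_iff.mp v.linearIndependent d hg
    apply biprod.hom_ext
    · rw [biprod.lift_fst, zero_comp]
      apply biproduct.hom_ext
      intro j
      rw [biproduct.lift_π, zero_comp]
      exact hOB _
    · rw [biprod.lift_snd, zero_comp]
      apply biproduct.hom_ext
      intro i
      rw [biproduct.lift_π, zero_comp, hd, h6, zero_smul]

/-- Converse of `exists_cover`. -/
theorem comp_injective {b c : ℕ} (Φ : (⨁ fun _ : Fin b => B) ⊞ (⨁ fun _ : Fin c => O) ⟶ F)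
    (hOO : ∀ f : O ⟶ O, ∃ c : k, f = c • 𝟙 O) (hOB : ∀ f : O ⟶ B, f = 0)
    (hlift : ∀ f : O ⟶ F, ∃ g, g ≫ Φ = f)
    (hinj : ∀ g : B ⟶ (⨁ fun _ : Fin b => B) ⊞ (⨁ fun _ : Fin c => O), g ≫ Φ = 0 → g = 0) :
    Function.Injective (TensorProduct.lift
      (Linear.comp B O F : (B ⟶ O) →ₗ[k] (O ⟶ F) →ₗ[k] (B ⟶ F))) := by
  classical
  let v : Fin c → (O ⟶ F) := fun i => biproduct.ι (fun _ : Fin c => O) i ≫ biprod.inr ≫ Φ
  have hv : Submodule.span k (Set.range v) = ⊤ := by
    rw [eq_top_iff]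
    rintro f -
    obtain ⟨g, rfl⟩ := hlift f
    choose d hd using fun i => hOO ((g ≫ biprod.snd) ≫ biproduct.π (fun _ : Fin c => O) i)
    have h1 : g = (∑ i, d i • biproduct.ι (fun _ : Fin c => O) i) ≫ biprod.inr := by
      apply biprod.hom_ext
      · rw [Category.assoc, biprod.inr_fst, comp_zero]
        apply biproduct.hom_ext
        intro j
        rw [zero_comp]
        exact hOB _
      · rw [Category.assoc, biprod.inr_snd, Category.comp_id]
        apply biproduct.hom_ext
        intro j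
        rw [hd, Preadditive.sum_comp]
        rw [Finset.sum_eq_single j]
        · rw [Linear.smul_comp, biproduct.ι_π_self]
        · intro i _ hij
          rw [Linear.smul_comp, biproduct.ι_π_ne _ hij, smul_zero]
        · intro h
          exact absurd (Finset.mem_univ _) h
    rw [h1, Category.assoc, Preadditive.sum_comp]
    refine Submodule.sum_mem _ fun i _ => ?_
    rw [Linear.smul_comp]
    exact Submodule.smul_mem _ _ (Submodule.subset_span ⟨i, rfl⟩)
  rw [injective_iff_map_eq_zero]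
  intro t ht
  obtain ⟨w, rfl⟩ := exists_sum_tmul (k := k) v hv t
  rw [lift_sum] at ht
  have h1 : biproduct.lift w ≫ biprod.inr = (0 : B ⟶ (⨁ fun _ : Fin b => B) ⊞ (⨁ fun _ : Fin c => O)) := by
    apply hinj
    rw [← ht]
    have h2 : Φ = biprod.desc (biprod.inl ≫ Φ) (biproduct.desc v) := by
      apply biprod.hom_ext'
      · rw [biprod.inl_desc]
      · rw [biprod.inr_desc]
        apply biproduct.hom_ext'
        intro j
        rw [biproduct.ι_desc]
    rw [Category.assoc]
    conv_lhs => rw [h2, biprod.inr_desc, biproduct.lift_desc]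
  have h2 : ∀ i, w i = 0 := by
    intro i
    have h3 := congrArg (fun φ => φ ≫ biprod.snd ≫ biproduct.π (fun _ : Fin c => O) i) h1
    simpa using h3
  refine Finset.sum_eq_zero fun i _ => ?_
  rw [h2, TensorProduct.zero_tmul]

end K581.GaetaAlg
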