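import Groth.Agent.Flat2E.FormalLift418
import Groth.Agent.CohqB.HLin
import Groth.Agent.CurvesB.HZero
import Groth.Agent.Sga67.SerreVB
import Groth.Agent.Sga67.CMReg
import Groth.Agent.Sga67.CohBasic
import Groth.Agent.ASBun.K792.EndLine
import Groth.Agent.VBCurve.K706.HomFin
import Groth.Agent.Lefpen.H717.ProjIrr
import Groth.Agent.VarietyB.EulerBinom
import Groth.Agent.CycB.CohProp
import Groth.Agent.S0844
import Groth.Agent.S0002
import Groth.Prelude.Def_KLin
import Groth.Prelude.Def_Curv2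

/-!
# Morphisms from `O(a)` and cohomology of twists on projective space
-/

set_option autoImplicit false
universe u

open CategoryTheory CategoryTheory.Limits AlgebraicGeometry Opposite TopologicalSpace

namespace K581.GaetaGeo

open Groth.Agent Groth.Agent.Fdesc Groth.Agent.CohqB.HLin

section Gen

variable {X : Scheme.{u}} {P N : X.Modules} (e : (DCoh.tensorRightMod P).obj N ≅ Coh.structureModule X)

/-- the section of `M ⊗ P` attached to `N ⟶ M`, where `N ⊗ P = O`. -/
noncomputable def sg {M : X.Modules} (f : N ⟶ M) : Γ((DCoh.tensorRightMod P).obj M, ⊤) :=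
  LocGen.sec (e.inv ≫ (DCoh.tensorRightMod P).map f) ⊤

theorem sg_comp {M M' : X.Modules} (f : N ⟶ M) (g : M ⟶ M') :
    sg e (f ≫ g) = Scheme.Modules.Hom.app ((DCoh.tensorRightMod P).map g) ⊤ (sg e f) := by
  rw [sg, Functor.map_comp, ← Category.assoc]
  rfl

theorem sg_injective {M : X.Modules} : Function.Injective (sg e (M := M)) := by
  intro f g hfg
  have := Flat2E.FormalLift418.faithful_tw e
  apply (DCoh.tensorRightMod P).map_injective
  have h1 := LocGen.hom_ext_sec hfg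
  exact (cancel_epi e.inv).mp h1

theorem sg_surjective {M : X.Modules} : Function.Surjective (sg e (M := M)) := by
  intro s
  have := Flat2E.FormalLift418.full_tw e
  obtain ⟨f, hf⟩ := (DCoh.tensorRightMod P).map_surjective
    (e.hom ≫ (LocGen.homOf s : Coh.structureModule X ⟶ (DCoh.tensorRightMod P).obj M))
  refine ⟨f, ?_⟩
  have h1 : e.inv ≫ (DCoh.tensorRightMod P).map f = LocGen.homOf s := by
    rw [hf]
    exact e.inv_hom_id_assoc _
  rw [sg, h1, LocGen.sec_homOf]
  exact LocGen.res_refl _ s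

include e in
/-- converse of the lifting property. -/
theorem subsingleton_of_lift (hP : PicF.IsInvertible P) {S : ShortComplex X.Modules} (hS : S.ShortExact)
    (h2 : Subsingleton (Coh.HH X ((DCoh.tensorRightMod P).obj S.X₂) 1))
    (hl : ∀ t : N ⟶ S.X₃, ∃ t' : N ⟶ S.X₂, t' ≫ S.g = t) :
    Subsingleton (Coh.HH X ((DCoh.tensorRightMod P).obj S.X₁) 1) := by
  have := PerfB.TensInv.preservesFiniteLimits_of_isInvertible hP
  have hS' : (S.map (DCoh.tensorRightMod P)).ShortExact := hS.map_of_exact _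
  refine subsingleton_of_forall_eq 0 fun x => ?_
  obtain ⟨y, rfl⟩ := (HH_exact₁ hS' 0 x).mp (h2.elim _ _)
  obtain ⟨t, ht⟩ := sg_surjective e (CurvesB.HZero.equivAdd ((DCoh.tensorRightMod P).obj S.X₃) y)
  obtain ⟨t', rfl⟩ := hl t
  rw [sg_comp] at ht
  refine (HH_exact₃ hS' 0 y).mpr ⟨(CurvesB.HZero.equivAdd ((DCoh.tensorRightMod P).obj S.X₂)).symm (sg e t'), ?_⟩
  apply (CurvesB.HZero.equivAdd ((DCoh.tensorRightMod P).obj S.X₃)).injective
  rw [← ht]
  refine (CurvesB.HZero.equivAdd_map ((DCoh.tensorRightMod P).map S.g)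
    ((CurvesB.HZero.equivAdd ((DCoh.tensorRightMod P).obj S.X₂)).symm (sg e t'))).trans ?_
  rw [AddEquiv.apply_symm_apply]

include e in
theorem hom_eq_zero {M : X.Modules} (hM : Subsingleton (Coh.HH X ((DCoh.tensorRightMod P).obj M) 0)) (f : N ⟶ M) :
    f = 0 := by
  have h1 : Subsingleton Γ((DCoh.tensorRightMod P).obj M, ⊤) :=
    (CurvesB.HZero.equivAdd ((DCoh.tensorRightMod P).obj M)).symm.toEquiv.subsingleton_congr.mpr hM
  exact sg_injective e (Subsingleton.elim _ _)

theorem subsingleton_of_sum {Y : Scheme.{u}} (F : X.Modules ⥤ Y.Modules) [F.Additive] {ι : Type*} [Fintype ι]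
    (M : X.Modules) (N : ι → X.Modules) (a : ∀ i, M ⟶ N i)
    (b : ∀ i, N i ⟶ M) (h : ∑ i, a i ≫ b i = 𝟙 M) (q : ℕ) (hN : ∀ i, Subsingleton (Coh.HH Y (F.obj (N i)) q)) :
    Subsingleton (Coh.HH Y (F.obj M) q) := by
  refine subsingleton_of_forall_eq 0 fun x => ?_
  have h1 : ∑ i, F.map (a i) ≫ F.map (b i) = 𝟙 (F.obj M) := by
    rw [← F.map_id, ← h, F.map_sum]
    exact Finset.sum_congr rfl fun i _ => (F.map_comp _ _).symm
  let A : (F.obj M ⟶ F.obj M) →+ Coh.HH Y (F.obj M) q :=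
    AddMonoidHom.mk' (fun φ => HHmap φ q x) fun φ ψ => congrArg (fun f => f x) (HHmap_add φ ψ q)
  have h2 : A (𝟙 _) = x := congrArg (fun f => f x) (HHmap_id (F.obj M) q)
  have h4 : ∀ i, A (F.map (a i) ≫ F.map (b i)) = 0 := fun i => by
    have h5 : HHmap (F.map (a i) ≫ F.map (b i)) q x = HHmap (F.map (b i)) q (HHmap (F.map (a i)) q x) :=
      congrArg (fun f => f x) (HHmap_comp (F.map (a i)) (F.map (b i)) q)
    have h3 : HHmap (F.map (a i)) q x = 0 := (hN i).elim _ _
    exact h5.trans ((congrArg _ h3).trans (map_zero _))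
  rw [← h2, ← h1, map_sum]
  exact Finset.sum_eq_zero fun i _ => h4 i

end Gen

variable (k : Type u) [Field k] (n : ℕ)

/-- projective space -/
noncomputable abbrev P : Scheme.{u} := CohB1.ProjSpace n k

/-- `O(a)` -/
noncomputable abbrev Oo (a : ℤ) : (P k n).Modules := Twist.twistProjSpace n k a

theorem isInv (a : ℤ) : PicF.IsInvertible (Oo k n a) := Sga67.SerreVB.isInvertible_twist n k a

/-- the twist -/
noncomputable abbrev tr (a : ℤ) : (P k n).Modules ⥤ (P k n).Modules := DCoh.tensorRightMod (Oo k n a)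

theorem nonempty_dual {a' a : ℤ} (h : a' + a = 0) :
    Nonempty (CohB1.tensorMod (Oo k n a') (Oo k n a) ≅ Coh.structureModule (P k n)) := by
  obtain ⟨e⟩ := Sga67.SerreVB.nonempty_twist_mul n k a' a
  obtain ⟨e'⟩ := Sga67.SerreVB.nonempty_twist_zero n k
  exact ⟨e ≪≫ eqToIso (by rw [h]) ≪≫ e'⟩

/-- the iso of `nonempty_dual`, in functor form. -/
noncomputable def dualIso {a' a : ℤ} (h : a' + a = 0) :
    (DCoh.tensorRightMod (Oo k n a)).obj (Oo k n a') ≅ Coh.structureModule (P k n) :=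
  (nonempty_dual k n h).some

theorem exact_tr (a : ℤ) {S : ShortComplex (P k n).Modules} (hS : S.ShortExact) :
    (S.map (tr k n a)).ShortExact := by
  have := PerfB.TensInv.preservesFiniteLimits_of_isInvertible (isInv k n a)
  exact hS.map_of_exact (tr k n a)

variable {k n}

/-- `H^q(M(m)) = 0`. -/
def Van (m : ℤ) (q : ℕ) (M : (P k n).Modules) : Prop :=
  Subsingleton (Coh.HH (P k n) (CohB1.tensorMod M (Oo k n m)) q)

section Van

variable {m : ℤ} {q : ℕ}

theorem van₂ {S : ShortComplex (P k n).Modules} (hS : S.ShortExact) (h₁ : Van m q S.X₁) (h₃ : Van m q S.X₃) :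
    Van m q S.X₂ := HH_subsingleton₂ (exact_tr k n m hS) q h₁ h₃

theorem van₃ {S : ShortComplex (P k n).Modules} (hS : S.ShortExact) (h₂ : Van m q S.X₂) (h₁ : Van m (q + 1) S.X₁) :
    Van m q S.X₃ := HH_subsingleton₃ (exact_tr k n m hS) q h₂ h₁

theorem van₁ {S : ShortComplex (P k n).Modules} (hS : S.ShortExact) (h₃ : Van m q S.X₃) (h₂ : Van m (q + 1) S.X₂) :
    Van m (q + 1) S.X₁ := HH_subsingleton₁ (exact_tr k n m hS) q h₃ h₂

theorem van_zero {S : ShortComplex (P k n).Modules} (hS : S.ShortExact) (h₂ : Van m 0 S.X₂) :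
    Van m 0 S.X₁ := HH_subsingleton₁_zero (exact_tr k n m hS) h₂

theorem van_of_iso {M N : (P k n).Modules} (e : M ≅ N) (h : Van m q M) : Van m q N :=
  (HHequiv ((tr k n m).mapIso e) q).symm.toEquiv.subsingleton_congr.mpr h

theorem van_of_sum {ι : Type*} [Fintype ι] (M : (P k n).Modules) (N : ι → (P k n).Modules) (a : ∀ i, M ⟶ N i)
    (b : ∀ i, N i ⟶ M) (h : ∑ i, a i ≫ b i = 𝟙 M) (hN : ∀ i, Van m q (N i)) : Van m q M :=
  subsingleton_of_sum (tr k n m) M N a b h q hN

theorem van_biproduct {ι : Type} [Fintype ι] [DecidableEq ι] (N : ι → (P k n).Modules) [HasBiproduct N]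
    (hN : ∀ i, Van m q (N i)) : Van m q (⨁ N) :=
  van_of_sum (⨁ N) N (fun i => biproduct.π N i) (fun i => biproduct.ι N i) (biproduct.total) hN

theorem van_biprod {M N : (P k n).Modules} (hM : Van m q M) (hN : Van m q N) : Van m q (M ⊞ N) := by
  refine van_of_sum (ι := Bool) (M ⊞ N) (fun i => if i then M else N)
    (fun i => match i with
      | true => biprod.fst
      | false => biprod.snd)
    (fun i => match i with
      | true => biprod.inl
      | false => biprod.inr) ?_ ?_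
  · rw [Fintype.sum_bool]
    exact biprod.total
  · intro i
    cases i
    · exact hN
    · exact hM

/-- cohomology of twists. -/
theorem van_Oo (m a : ℤ) (q : ℕ) (h₀ : ¬ (q = 0 ∧ 0 ≤ a + m)) (hn : ¬ (q = n ∧ a + m ≤ -((n : ℤ) + 1))) :
    Van m q (Oo k n a) := by
  obtain ⟨e⟩ := Sga67.SerreVB.nonempty_twist_mul n k a m
  have h1 := S0844.result k n (a + m) q h₀ hn
  exact (HHequiv e q).toEquiv.subsingleton_congr.mpr h1

theorem van_O (m : ℤ) (q : ℕ) (h₀ : ¬ (q = 0 ∧ 0 ≤ m)) (hn : ¬ (q = n ∧ m ≤ -((n : ℤ) + 1))) :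
    Van m q (Coh.structureModule (P k n)) := by
  obtain ⟨e⟩ := Sga67.SerreVB.nonempty_twist_zero n k
  refine van_of_iso e (van_Oo m 0 q ?_ ?_)
  · rwa [zero_add]
  · rwa [zero_add]

end Van

section Hom

variable {a' a : ℤ} (h : a' + a = 0)

include h in
theorem hom_eq_zero_of_van {M : (P k n).Modules} (hM : Van a 0 M) (f : Oo k n a' ⟶ M) : f = 0 :=
  hom_eq_zero (P := Oo k n a) (dualIso k n h) hM f

include h in
/-- lifting of maps from `O(-a)`. -/
theorem exists_lift {S : ShortComplex (P k n).Modules} (hS : S.ShortExact) (h1 : Van a 1 S.X₁)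
    (t : Oo k n a' ⟶ S.X₃) : ∃ t' : Oo k n a' ⟶ S.X₂, t' ≫ S.g = t :=
  Flat2E.FormalLift418.exists_lift (isInv k n a) (nonempty_dual k n h).some hS h1 t

include h in
/-- converse of `exists_lift`. -/
theorem van_one_of_lift {S : ShortComplex (P k n).Modules} (hS : S.ShortExact) (h2 : Van a 1 S.X₂)
    (hl : ∀ t : Oo k n a' ⟶ S.X₃, ∃ t' : Oo k n a' ⟶ S.X₂, t' ≫ S.g = t) : Van a 1 S.X₁ :=
  subsingleton_of_lift (P := Oo k n a) (dualIso k n h) (isInv k n a) hS h2 hl

end Hom

end K581.GaetaGeo
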