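import Groth.Agent.Coherent.K581.GaetaAlg
import Groth.Agent.Coherent.K581.GaetaGeo
import Groth.Agent.ASBun.K792.HomFin
import Groth.Agent.S2329
import Groth.Agent.FormalB.FormalFG

/-!
# Gaeta resolutions on `P²`: covers by sums of twists, endomorphisms of twists
-/

set_option autoImplicit false
universe u

open CategoryTheory CategoryTheory.Limits AlgebraicGeometry Opposite TopologicalSpace

attribute [local instance] Abelian.hasFiniteBiproducts

namespace K581.GaetaMain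

open Groth.Agent K581.GaetaGeo

variable {k : Type u} [Field k]

section Gen

variable {n : ℕ}

instance isProper_P : IsProper (P k n ↘ Spec (CommRingCat.of k)) := VarietyB.EulerBinom.isProper_over k n

theorem isLocNoeth : IsLocallyNoetherian (P k n) :=
  LocallyOfFiniteType.isLocallyNoetherian (P k n ↘ (Spec (CommRingCat.of k)))

theorem exists_scalar [IsAlgClosed k] {L : (P k n).Modules} (hL : PicF.IsInvertible L) (f : L ⟶ L) :
    ∃ c : k, f = c • 𝟙 L := by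
  have : IsIntegral (P k n) := Lefpen.H717.ProjIrr.isIntegral_projSpace n k
  obtain ⟨r, rfl⟩ := K792.EndLine.exists_eq_smul hL f
  obtain ⟨c, rfl⟩ := K792.EndLine.exists_const k (P k n ↘ Spec (CommRingCat.of k)) r
  exact ⟨c, (KLin.smul_id L c).symm⟩

theorem finite_hom (M N : (P k n).Modules) (hM : Coh.IsCoh M) (hN : Coh.IsCoh N) : Module.Finite k (M ⟶ N) := by
  let i1 : Linear k (P k n).Modules := CurvesC.LinMod.linearModules k (P k n)
  have h1 : @Module.Finite k (M ⟶ N) _ _ (i1.homModule M N) :=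
    K792.HomFin.finite_hom k M N hM hN
  let e : @LinearEquiv k k _ _ (RingHom.id k) (RingHom.id k) _ _ (M ⟶ N) (M ⟶ N) _ _ (i1.homModule M N)
      ((KLin.linearOver (A := k) (X := P k n)).homModule M N) :=
    @LinearEquiv.mk k k _ _ (RingHom.id k) (RingHom.id k) _ _ (M ⟶ N) (M ⟶ N) _ _ (i1.homModule M N)
      ((KLin.linearOver (A := k) (X := P k n)).homModule M N)
      (@LinearMap.mk k k _ _ (RingHom.id k) (M ⟶ N) (M ⟶ N) _ _ (i1.homModule M N)
        ((KLin.linearOver (A := k) (X := P k n)).homModule M N) (AddHom.mk id fun _ _ => rfl) (fun c f => by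
          change f ≫ Formal.smulMod k N c = Formal.smulMod k M c ≫ f
          rw [Formal.smulMod, KLin.comp_smulModΓ]
          rfl)) id (fun _ => rfl) (fun _ => rfl)
  exact @Module.Finite.equiv k (M ⟶ N) (M ⟶ N) _ _ (i1.homModule M N) _ _ h1 e

/-- a map onto a regular sheaf is epi if all maps from `O(-m)` lift. -/
theorem epi_of_lift {a' a : ℤ} (h : a' + a = 0) {M E : (P k n).Modules} (hM : Coh.IsCoh M)
    (hreg : Curv2.IsMRegular k n M a) (Φ : E ⟶ M) (hl : ∀ f : Oo k n a' ⟶ M, ∃ g, g ≫ Φ = f) : Epi Φ := by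
  have := Sga67.SerreVB.compactSpace n k
  have hg : Curv2.IsGloballyGenerated (CohB1.tensorMod M (Oo k n a)) :=
    Sga67.CMReg.isGloballyGenerated hM.1 (m := a) hreg a le_rfl
  obtain ⟨κ, _, p, hp⟩ := Flat2E.FormalLift418.exists_epi (isInv k n a) (nonempty_dual k n h).some hM hg
  refine ⟨fun {Z} u v huv => ?_⟩
  rw [← cancel_epi p]
  apply Sigma.hom_ext
  intro j
  obtain ⟨g, hg⟩ := hl (Sigma.ι (fun _ : κ => Oo k n a') j ≫ p)
  rw [← Category.assoc, ← Category.assoc, ← hg, Category.assoc, Category.assoc, huv]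

/-- covering by copies of a single object. -/
theorem exists_cover_one {C : Type*} [Category* C] [Preadditive C] [Linear k C] [HasFiniteBiproducts C]
    {A F : C} [Module.Finite k (A ⟶ F)] (hAA : ∀ f : A ⟶ A, ∃ c : k, f = c • 𝟙 A) :
    ∃ (a : ℕ) (q : (⨁ fun _ : Fin a => A) ⟶ F), (∀ f : A ⟶ F, ∃ g, g ≫ q = f) ∧
      (∀ g : A ⟶ (⨁ fun _ : Fin a => A), g ≫ q = 0 → g = 0) := by
  let v := Module.finBasis k (A ⟶ F)
  refine ⟨_, biproduct.desc fun i => v i, ?_, ?_⟩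
  · intro f
    refine ⟨biproduct.lift fun i => v.repr f i • 𝟙 A, ?_⟩
    rw [biproduct.lift_desc]
    simp only [Linear.smul_comp, Category.id_comp]
    exact v.sum_repr f
  · intro g hg
    choose d hd using fun i => hAA (g ≫ biproduct.π _ i)
    have h1 : g = biproduct.lift fun i => d i • 𝟙 A := by
      apply biproduct.hom_ext
      intro j
      rw [biproduct.lift_π, hd]
    rw [h1, biproduct.lift_desc] at hg
    simp only [Linear.smul_comp, Category.id_comp] at hg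
    have h6 := Fintype.linearIndependent_iff.mp v.linearIndependent d hg
    rw [h1]
    apply biproduct.hom_ext
    intro j
    rw [biproduct.lift_π, zero_comp, h6, zero_smul]

end Gen

/-- vanishing for sums of twists -/
theorem van_sum {n : ℕ} (a : ℕ) (m c : ℤ) (q : ℕ) (h₀ : ¬ (q = 0 ∧ 0 ≤ c + m)) (hn : ¬ (q = n ∧ c + m ≤ -((n : ℤ) + 1))) :
    Van m q (⨁ fun _ : Fin a => Oo k n c) :=
  van_biproduct (fun _ : Fin a => Oo k n c) fun _ => van_Oo m c q h₀ hn

/-- A coherent sheaf `K` on `P²` with `Hom(O(-1), K) = 0`, which is `2`-regular with `H¹(K) = 0` is a sum of copies of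
`O(-2)`. -/
theorem exists_iso [IsAlgClosed k] {K : (P k 2).Modules} (hK : Coh.IsCoh K)
    (h11 : Van 1 1 K) (h02 : Van 0 2 K) (h01 : Van 0 1 K) (hB : ∀ f : Oo k 2 (-1) ⟶ K, f = 0) :
    ∃ a : ℕ, Nonempty (K ≅ ⨁ fun _ : Fin a => Oo k 2 (-2)) := by
  have hLN := isLocNoeth (k := k) (n := 2)
  have hcohO : ∀ a : ℤ, Coh.IsCoh (Oo k 2 a) := fun a => S2329.isCoh_of_isInvertible (isInv k 2 a)
  have hfin := finite_hom (Oo k 2 (-2)) K (hcohO _) hK
  obtain ⟨a, q, hl, hi⟩ := exists_cover_one (k := k) (A := Oo k 2 (-2)) (F := K) (exists_scalar (isInv k 2 (-2)))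
  have hreg : Curv2.IsMRegular k 2 K 2 := by
    intro i hi1 hi2
    interval_cases i
    · exact h11
    · exact h02
  have hepi : Epi q := epi_of_lift (a' := -2) (a := 2) (by norm_num) hK hreg q hl
  have hAcoh : Coh.IsCoh (⨁ fun _ : Fin a => Oo k 2 (-2)) := FormalB.FormalFG.isCoh_biproduct _ fun _ => hcohO _
  have hK' : Coh.IsCoh (kernel q) := Sga67.CohBasic.isCoh_kernel q hAcoh hK.1
  let S : ShortComplex (P k 2).Modules := ShortComplex.mk (kernel.ι q) q (kernel.condition q)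
  have hS : S.ShortExact :=
    { exact := ShortComplex.exact_kernel q
      mono_f := inferInstanceAs (Mono (kernel.ι q))
      epi_g := hepi }
  have v1 : Van 1 1 S.X₂ := van_sum a 1 (-2) 1 (by norm_num) (by norm_num)
  have v2 : Van 0 2 S.X₂ := van_sum a 0 (-2) 2 (by norm_num) (by norm_num)
  have w1 : Van 1 1 S.X₁ := van_one_of_lift (a' := -1) (a := 1) (by norm_num) hS v1
      fun t => ⟨0, by rw [zero_comp]; exact (hB t).symm⟩
  have w2 : Van 0 2 S.X₁ := van₁ hS h01 v2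
  have hreg' : Curv2.IsMRegular k 2 (kernel q) 2 := by
    intro i hi1 hi2
    interval_cases i
    · exact w1
    · exact w2
  have h0 : ∀ f : Oo k 2 (-2) ⟶ kernel q, f = 0 := by
    intro f
    have h1 : f ≫ kernel.ι q = 0 := by
      apply hi
      rw [Category.assoc, kernel.condition, comp_zero]
    rw [← cancel_mono (kernel.ι q), h1, zero_comp]
  have hepi0 : Epi (0 : (kernel q) ⟶ kernel q) :=
    epi_of_lift (a' := -2) (a := 2) (by norm_num) hK' hreg' 0 fun f => ⟨0, by rw [h0 f, comp_zero]⟩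
  have hz : kernel.ι q = 0 := by
    have h1 : (0 : kernel q ⟶ kernel q) ≫ kernel.ι q = (0 : kernel q ⟶ kernel q) ≫ 0 := by
      rw [zero_comp, zero_comp]
    exact (cancel_epi _).mp h1
  have hmono : Mono q := Preadditive.mono_of_kernel_zero hz
  have hiso : IsIso q := isIso_of_mono_of_epi q
  exact ⟨a, ⟨(asIso q).symm⟩⟩

/-- `Hom(O, M) = 0` if `H⁰(M) = 0`. -/
theorem hom_O_eq_zero {M : (P k 2).Modules} (hM : Van 0 0 M) (f : Coh.structureModule (P k 2) ⟶ M) : f = 0 := by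
  obtain ⟨e⟩ := Sga67.SerreVB.nonempty_twist_zero 2 k
  have h1 := hom_eq_zero_of_van (a' := 0) (a := 0) (by norm_num) hM (e.hom ≫ f)
  rw [← cancel_epi e.hom, h1, comp_zero]

/-- lifting of maps from `O`. -/
theorem exists_lift_O {S : ShortComplex (P k 2).Modules} (hS : S.ShortExact) (h1 : Van 0 1 S.X₁)
    (t : Coh.structureModule (P k 2) ⟶ S.X₃) : ∃ t' : Coh.structureModule (P k 2) ⟶ S.X₂, t' ≫ S.g = t := by
  obtain ⟨e⟩ := Sga67.SerreVB.nonempty_twist_zero 2 k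
  obtain ⟨t', ht'⟩ := exists_lift (a' := 0) (a := 0) (by norm_num) hS h1 (e.hom ≫ t)
  exact ⟨e.inv ≫ t', by rw [Category.assoc, ht', Iso.inv_hom_id_assoc]⟩

theorem van_one_of_lift_O {S : ShortComplex (P k 2).Modules} (hS : S.ShortExact) (h2 : Van 0 1 S.X₂)
    (hl : ∀ t : Coh.structureModule (P k 2) ⟶ S.X₃, ∃ t', t' ≫ S.g = t) : Van 0 1 S.X₁ := by
  obtain ⟨e⟩ := Sga67.SerreVB.nonempty_twist_zero 2 k
  refine van_one_of_lift (a' := 0) (a := 0) (by norm_num) hS h2 fun t => ?_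
  obtain ⟨t', ht'⟩ := hl (e.inv ≫ t)
  exact ⟨e.hom ≫ t', by rw [Category.assoc, ht', Iso.hom_inv_id_assoc]⟩

/-- vanishing of cohomology of the middle term. -/
theorem van_mid {b c : ℕ} (m : ℤ) (q : ℕ) (h1 : ¬ (q = 0 ∧ 0 ≤ m)) (h2 : ¬ (q = 2 ∧ m ≤ -2)) :
    Van m q ((⨁ fun _ : Fin b => Oo k 2 (-1)) ⊞ (⨁ fun _ : Fin c => Coh.structureModule (P k 2))) := by
  refine van_biprod (van_biproduct _ fun _ => van_Oo m (-1) q ?_ ?_) (van_biproduct _ fun _ => van_O m q h1 ?_)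
  · rintro ⟨h, h'⟩; exact h1 ⟨h, by omega⟩
  · rintro ⟨h, h'⟩; exact h2 ⟨h, by push_cast at h'; omega⟩
  · rintro ⟨h, h'⟩; exact h2 ⟨h, by push_cast at h'; omega⟩

theorem hom_O_Oo (f : Coh.structureModule (P k 2) ⟶ Oo k 2 (-1)) : f = 0 :=
  hom_O_eq_zero (van_Oo 0 (-1) 0 (by norm_num) (by norm_num)) f

theorem isInv_O : PicF.IsInvertible (Coh.structureModule (P k 2)) :=
  Fdesc.LocGen.isInvertible_structureModule

theorem exists_resolution [IsAlgClosed k] {F : (P k 2).Modules} (hF : Coh.IsCoh F)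
    (hm12 : Van (-1) 2 F) (h01 : Van 0 1 F)
    (hμ : Function.Injective (TensorProduct.lift
      (Linear.comp (Oo k 2 (-1)) (Coh.structureModule (P k 2)) F :
        (Oo k 2 (-1) ⟶ Coh.structureModule (P k 2)) →ₗ[k] (Coh.structureModule (P k 2) ⟶ F) →ₗ[k]
          (Oo k 2 (-1) ⟶ F)))) :
    ∃ (a b c : ℕ) (S : ShortComplex (P k 2).Modules), S.ShortExact ∧
      Nonempty (S.X₁ ≅ ⨁ fun _ : Fin a => Oo k 2 (-2)) ∧
      Nonempty (S.X₂ ≅ (⨁ fun _ : Fin b => Oo k 2 (-1)) ⊞ (⨁ fun _ : Fin c => Coh.structureModule (P k 2))) ∧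
      Nonempty (S.X₃ ≅ F) := by
  have hLN := isLocNoeth (k := k) (n := 2)
  have hcohO : ∀ a : ℤ, Coh.IsCoh (Oo k 2 a) := fun a => S2329.isCoh_of_isInvertible (isInv k 2 a)
  have hcohS : Coh.IsCoh (Coh.structureModule (P k 2)) := S2329.isCoh_of_isInvertible isInv_O
  have hfin1 := finite_hom (Oo k 2 (-1)) F (hcohO _) hF
  have hfin2 := finite_hom (Coh.structureModule (P k 2)) F hcohS hF
  obtain ⟨b, c, Φ, hB, hO, hBi, hOi⟩ := GaetaAlg.exists_cover (k := k) (B := Oo k 2 (-1))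
    (O := Coh.structureModule (P k 2)) (F := F) (exists_scalar isInv_O) (exists_scalar (isInv k 2 (-1)))
    hom_O_Oo hμ
  have hreg : Curv2.IsMRegular k 2 F 1 := by
    intro i hi1 hi2
    interval_cases i
    · exact h01
    · exact hm12
  have hepi : Epi Φ := epi_of_lift (a' := -1) (a := 1) (by norm_num) hF hreg Φ hB
  have hEcoh : Coh.IsCoh ((⨁ fun _ : Fin b => Oo k 2 (-1)) ⊞
      (⨁ fun _ : Fin c => Coh.structureModule (P k 2))) :=
    Ega3B.DevQC.isCoh_biprod (FormalB.FormalFG.isCoh_biproduct _ fun _ => hcohO _)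
      (FormalB.FormalFG.isCoh_biproduct _ fun _ => hcohS)
  have hK : Coh.IsCoh (kernel Φ) := Sga67.CohBasic.isCoh_kernel Φ hEcoh hF.1
  let S : ShortComplex (P k 2).Modules := ShortComplex.mk (kernel.ι Φ) Φ (kernel.condition Φ)
  have hS : S.ShortExact :=
    { exact := ShortComplex.exact_kernel Φ
      mono_f := inferInstanceAs (Mono (kernel.ι Φ))
      epi_g := hepi }
  have v1 : Van 1 1 S.X₂ := van_mid 1 1 (by norm_num) (by norm_num)
  have v2 : Van 0 2 S.X₂ := van_mid 0 2 (by norm_num) (by norm_num)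
  have v3 : Van 0 1 S.X₂ := van_mid 0 1 (by norm_num) (by norm_num)
  have w1 : Van 1 1 S.X₁ := van_one_of_lift (a' := -1) (a := 1) (by norm_num) hS v1 hB
  have w2 : Van 0 2 S.X₁ := van₁ hS h01 v2
  have w3 : Van 0 1 S.X₁ := van_one_of_lift_O hS v3 hO
  have w4 : ∀ f : Oo k 2 (-1) ⟶ kernel Φ, f = 0 := by
    intro f
    have h1 : f ≫ kernel.ι Φ = 0 := by
      apply hBi
      rw [Category.assoc, kernel.condition, comp_zero]
    rw [← cancel_mono (kernel.ι Φ), h1, zero_comp]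
  obtain ⟨a, ⟨e⟩⟩ := exists_iso hK w1 w2 w3 w4
  exact ⟨a, b, c, S, hS, ⟨e⟩, ⟨Iso.refl _⟩, ⟨Iso.refl _⟩⟩

theorem van_of_resolution [IsAlgClosed k] {F : (P k 2).Modules} {a b c : ℕ} {S : ShortComplex (P k 2).Modules}
    (hS : S.ShortExact) (e₁ : S.X₁ ≅ ⨁ fun _ : Fin a => Oo k 2 (-2))
    (e₂ : S.X₂ ≅ (⨁ fun _ : Fin b => Oo k 2 (-1)) ⊞ (⨁ fun _ : Fin c => Coh.structureModule (P k 2)))
    (e₃ : S.X₃ ≅ F) :
    Van (-1) 0 F ∧ Van (-1) 2 F ∧ Van 0 1 F ∧ Van 0 2 F ∧ Van 1 1 F ∧ Van 1 2 F ∧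
      Function.Injective (TensorProduct.lift
      (Linear.comp (Oo k 2 (-1)) (Coh.structureModule (P k 2)) F :
        (Oo k 2 (-1) ⟶ Coh.structureModule (P k 2)) →ₗ[k] (Coh.structureModule (P k 2) ⟶ F) →ₗ[k]
          (Oo k 2 (-1) ⟶ F))) := by
  have hA : ∀ (m : ℤ) (q : ℕ), ¬ (q = 0 ∧ 0 ≤ -2 + m) → ¬ (q = 2 ∧ -2 + m ≤ -3) → Van m q S.X₁ := by
    intro m q h1 h2
    refine van_of_iso e₁.symm (van_biproduct _ fun _ => van_Oo m (-2) q h1 ?_)
    rintro ⟨h, h'⟩
    exact h2 ⟨h, by push_cast at h'; omega⟩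
  have hE : ∀ (m : ℤ) (q : ℕ), ¬ (q = 0 ∧ 0 ≤ m) → ¬ (q = 2 ∧ m ≤ -2) → Van m q S.X₂ :=
    fun m q h1 h2 => van_of_iso e₂.symm (van_mid m q h1 h2)
  have hF : ∀ (m : ℤ) (q : ℕ), Van m q S.X₂ → Van m (q + 1) S.X₁ → Van m q F :=
    fun m q h1 h2 => van_of_iso e₃ (van₃ hS h1 h2)
  refine ⟨hF _ _ (hE _ _ (by norm_num) (by norm_num)) (hA _ _ (by norm_num) (by norm_num)),
    hF _ _ (hE _ _ (by norm_num) (by norm_num)) (hA _ _ (by norm_num) (by norm_num)),
    hF _ _ (hE _ _ (by norm_num) (by norm_num)) (hA _ _ (by norm_num) (by norm_num)),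
    hF _ _ (hE _ _ (by norm_num) (by norm_num)) (hA _ _ (by norm_num) (by norm_num)),
    hF _ _ (hE _ _ (by norm_num) (by norm_num)) (hA _ _ (by norm_num) (by norm_num)),
    hF _ _ (hE _ _ (by norm_num) (by norm_num)) (hA _ _ (by norm_num) (by norm_num)), ?_⟩
  refine GaetaAlg.comp_injective (k := k) (e₂.inv ≫ S.g ≫ e₃.hom) (exists_scalar isInv_O) hom_O_Oo ?_ ?_
  · intro f
    obtain ⟨g, hg⟩ := exists_lift_O hS (hA 0 1 (by norm_num) (by norm_num)) (f ≫ e₃.inv)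
    refine ⟨g ≫ e₂.hom, ?_⟩
    rw [Category.assoc, Iso.hom_inv_id_assoc, reassoc_of% hg, Iso.inv_hom_id, Category.comp_id]
  · intro g hg
    have h1 : (g ≫ e₂.inv) ≫ S.g = 0 := by
      rw [← cancel_mono e₃.hom, zero_comp]
      simpa using hg
    have hm := hS.mono_f
    have h2 : hS.exact.lift (g ≫ e₂.inv) h1 = 0 :=
      hom_eq_zero_of_van (a' := -1) (a := 1) (by norm_num) (hA 1 0 (by norm_num) (by norm_num)) _
    have h3 : g ≫ e₂.inv = 0 := by
      rw [← hS.exact.lift_f (g ≫ e₂.inv) h1, h2, zero_comp]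
    rw [← cancel_mono e₂.inv, h3, zero_comp]

end K581.GaetaMain
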